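import Groth.Agent.KoszulLib.SchPres
import Groth.Agent.KoszulLib.Descent
import Groth.Agent.KoszulLib.CompLCI
import Groth.Agent.LciSp.Basic
import Groth.Agent.S8658
import Mathlib.AlgebraicGeometry.Morphisms.LocalFlatDescent
import Mathlib.RingTheory.RingHom.FaithfullyFlat

/-!
# Descent of Koszul morphisms along quasi-compact faithfully flat base change
-/

set_option autoImplicit false
set_option linter.style.haveILetI false
set_option backward.isDefEq.respectTransparency false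

universe u

open CategoryTheory CategoryTheory.Limits AlgebraicGeometry TensorProduct

namespace Groth.Agent.KoszulFpqc

/-- a monomorphism can be composed onto a cartesian square -/
theorem isPullback_comp_mono {C : Type*} [Category C] {P X Y Z Z' : C} {fst : P ⟶ X} {snd : P ⟶ Y}
    {f : X ⟶ Z} {g : Y ⟶ Z} (m : Z ⟶ Z') [Mono m] (h : IsPullback fst snd f g) :
    IsPullback fst snd (f ≫ m) (g ≫ m) := by
  refine ⟨⟨by rw [reassoc_of% h.w]⟩, ⟨PullbackCone.IsLimit.mk (by rw [reassoc_of% h.w]) (fun s => h.lift s.fst s.snd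
    ((cancel_mono m).1 (by simpa only [Category.assoc] using s.condition))) ?_ ?_ ?_⟩⟩
  · intro s; exact h.lift_fst _ _ _
  · intro s; exact h.lift_snd _ _ _
  · intro s m₀ h1 h2; exact h.hom_ext (h1.trans (h.lift_fst _ _ _).symm) (h2.trans (h.lift_snd _ _ _).symm)

/-- affine version -/
theorem kAt_of_baseChange {A A' B D : Type u} [CommRing A] [CommRing A'] [CommRing B] [CommRing D] [Algebra A A']
    [Algebra A B] [Algebra A D] [Algebra.Smooth A D] [Module.FaithfullyFlat A A'] (π : D →ₐ[A] B)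
    (hπ : Function.Surjective π)
    (h : ∀ z, Synt.IsKoszulAt
      (Spec.map (CommRingCat.ofHom (Algebra.TensorProduct.includeLeftRingHom : A' →+* A' ⊗[A] B))) z)
    (P : PrimeSpectrum D) : KoszulLib.KAt (RingHom.ker π.toRingHom) P.asIdeal := by
  let π' : A' ⊗[A] D →ₐ[A] A' ⊗[A] B := Algebra.TensorProduct.map (AlgHom.id A A') π
  have hπ' : Function.Surjective π' := Algebra.TensorProduct.map_surjective _ _ Function.surjective_id hπ
  let j : D →+* A' ⊗[A] D := (Algebra.TensorProduct.includeRight : D →ₐ[A] A' ⊗[A] D).toRingHom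
  have hj : j.FaithfullyFlat := by
    have h1 : (algebraMap D (D ⊗[A] A')).FaithfullyFlat := RingHom.faithfullyFlat_algebraMap_iff.2 inferInstance
    have h2 : j = ((Algebra.TensorProduct.comm A D A').toRingEquiv : D ⊗[A] A' →+* A' ⊗[A] D).comp
        (algebraMap D (D ⊗[A] A')) := RingHom.ext fun d => by simp [j]
    rw [h2]
    exact RingHom.FaithfullyFlat.stableUnderComposition _ _ h1 (.of_bijective (RingEquiv.bijective _))
  letI := j.toAlgebra
  haveI : Module.FaithfullyFlat D (A' ⊗[A] D) := hj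
  refine KoszulLib.kAt_of_faithfullyFlat (B := A' ⊗[A] D) (fun Q => ?_) P
  have hker : (RingHom.ker π.toRingHom).map (algebraMap D (A' ⊗[A] D)) = RingHom.ker π'.toRingHom :=
    (Algebra.TensorProduct.lTensor_ker π hπ).symm
  rw [hker]
  by_cases hle : RingHom.ker π'.toRingHom ≤ Q.asIdeal
  swap; · exact KoszulLib.kAt_of_not_le hle
  obtain ⟨w, rfl⟩ : Q ∈ Set.range (PrimeSpectrum.comap π'.toRingHom) := by
    rw [range_comap_of_surjective _ _ hπ']
    exact hle
  let φ : CommRingCat.of (A' ⊗[A] D) ⟶ CommRingCat.of (A' ⊗[A] B) := CommRingCat.ofHom π'.toRingHom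
  let p := Spec.map (CommRingCat.ofHom (algebraMap A' (A' ⊗[A] D)))
  haveI : Smooth p := HasRingHomProperty.Spec_iff.mpr (RingHom.smooth_algebraMap.mpr inferInstance)
  haveI : IsClosedImmersion (Spec.map φ) := IsClosedImmersion.spec_of_surjective φ hπ'
  let O : (Spec (CommRingCat.of (A' ⊗[A] B))).Opens := ⊤
  let e : O.toScheme ≅ Spec (CommRingCat.of (A' ⊗[A] B)) := Scheme.topIso _
  have hfac : (e.hom ≫ Spec.map φ) ≫ p = O.ι ≫ Spec.map (CommRingCat.ofHom
      (Algebra.TensorProduct.includeLeftRingHom : A' →+* A' ⊗[A] B)) := by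
    rw [Category.assoc, ← Spec.map_comp]
    congr 1
    congr 1
    ext a
    simp [φ, π']
  exact (KoszulLib.spec_isRegularImmersionAt_iff e φ hπ' ⟨w, trivial⟩).1
    (KoszulLib.isRegularImmersionAt_of_isKoszulAt _ (h w) O trivial (e.hom ≫ Spec.map φ) p hfac)

/-- Koszul morphisms descend along quasi-compact faithfully flat base change -/
theorem isKoszulAt_descent {X Y X' Y' : Scheme.{u}} (f : X ⟶ Y) (g : Y' ⟶ Y) [Flat g] [Surjective g] [QuasiCompact g]
    (f' : X' ⟶ Y') (g' : X' ⟶ X) (hsq : IsPullback g' f' f g)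
    (hf' : ∀ x' : X', Synt.IsKoszulAt f' x') : ∀ x : X, Synt.IsKoszulAt f x := by
  haveI : LocallyOfFiniteType f := by
    haveI := KoszulLib.locallyOfFiniteType_of_isKoszulAt f' hf'
    exact MorphismProperty.of_isPullback_of_descendsAlong (P := @LocallyOfFiniteType)
      (Q := @Surjective ⊓ @Flat ⊓ @QuasiCompact) hsq.flip ⟨⟨‹_›, ‹_›⟩, ‹_›⟩ this
  intro x
  obtain ⟨_, ⟨V, hV, rfl⟩, hxV, -⟩ :=
    Y.isBasis_affineOpens.exists_subset_of_mem_open (Set.mem_univ (f x)) isOpen_univ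
  obtain ⟨_, ⟨U, hU, rfl⟩, hxU, hUV⟩ :=
    X.isBasis_affineOpens.exists_subset_of_mem_open (show x ∈ f ⁻¹ᵁ V from hxV) (f ⁻¹ᵁ V).isOpen
  letI := (f.appLE V U hUV).hom.toAlgebra
  haveI : Algebra.FiniteType Γ(Y, V) Γ(X, U) := f.finiteType_appLE hV hU hUV
  obtain ⟨n, π, hπ⟩ := Algebra.FiniteType.iff_quotient_mvPolynomial''.mp ‹Algebra.FiniteType Γ(Y, V) Γ(X, U)›
  let W : Scheme.{u} := (g ⁻¹ᵁ V).toScheme
  haveI : CompactSpace W := isCompact_iff_compactSpace.mp (QuasiCompact.isCompact_preimage (f := g) _ V.2 hV.isCompact)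
  let T : Scheme.{u} := ∐ W.affineCover.finiteSubcover.X
  haveI : IsAffine T := inferInstance
  let q : T ⟶ W := Sigma.desc W.affineCover.finiteSubcover.f
  haveI : Etale q := (IsZariskiLocalAtSource.iff_of_openCover (P := @Etale) (sigmaOpenCover _)).2 fun i => by
    show Etale (Sigma.ι W.affineCover.finiteSubcover.X i ≫ q)
    rw [Sigma.ι_desc]
    infer_instance
  haveI : Surjective q := ⟨fun w => by
    obtain ⟨z, hz⟩ := W.affineCover.finiteSubcover.covers w
    refine ⟨Sigma.ι W.affineCover.finiteSubcover.X _ z, ?_⟩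
    rw [← Scheme.Hom.comp_apply, Sigma.ι_desc]
    exact hz⟩
  let A' : CommRingCat.{u} := Γ(T, ⊤)
  let c : Spec A' ⟶ Y' := T.isoSpec.inv ≫ q ≫ (g ⁻¹ᵁ V).ι
  let d : Spec A' ⟶ Spec Γ(Y, V) := T.isoSpec.inv ≫ q ≫ (g ∣_ V) ≫ hV.isoSpec.hom
  have hcd : c ≫ g = d ≫ hV.fromSpec := by
    simp only [c, d, W, Category.assoc, IsAffineOpen.isoSpec_hom_fromSpec, morphismRestrict_ι]
  haveI : Flat (g ∣_ V) := IsZariskiLocalAtTarget.restrict ‹Flat g› _
  haveI : Surjective (g ∣_ V) := IsZariskiLocalAtTarget.restrict ‹Surjective g› _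
  haveI : Flat d := inferInstance
  haveI : Surjective d := inferInstance
  let ψ := Spec.preimage d
  have hψd : Spec.map ψ = d := Spec.map_preimage d
  have hff : ψ.hom.FaithfullyFlat := by
    rw [RingHom.FaithfullyFlat.iff_flat_and_comap_surjective]
    refine ⟨HasRingHomProperty.Spec_iff.mp (hψd ▸ ‹Flat d›), ?_⟩
    intro p
    have : Surjective (Spec.map ψ) := hψd ▸ ‹Surjective d›
    exact (Spec.map ψ).surjective p
  letI := ψ.hom.toAlgebra
  haveI : Module.FaithfullyFlat Γ(Y, V) A' := hff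
  haveI : Algebra.Smooth Γ(Y, V) (MvPolynomial (Fin n) Γ(Y, V)) := ⟨inferInstance, inferInstance⟩
  refine (KoszulLib.isKoszulAt_iff_kAt f ⟨V, hV⟩ ⟨U, hU⟩ hUV _ π.toRingHom hπ π.comp_algebraMap x hxU).2
    (kAt_of_baseChange (A' := A') π hπ ?_
      (PrimeSpectrum.comap π.toRingHom (hU.primeIdealOf ⟨x, hxU⟩)))
  intro z
  let b := Spec.map (CommRingCat.ofHom (algebraMap Γ(Y, V) Γ(X, U)))
  let pr₂ := Spec.map (CommRingCat.ofHom (Algebra.TensorProduct.includeLeftRingHom : A' →+* A' ⊗[Γ(Y, V)] Γ(X, U)))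
  let pr₁ := Spec.map (CommRingCat.ofHom
    (Algebra.TensorProduct.includeRight (R := Γ(Y, V)) (A := A') (B := Γ(X, U))).toRingHom)
  have sqT : IsPullback pr₂ pr₁ (Spec.map ψ) b :=
    isPullback_SpecMap_of_isPushout _ _ _ _ (CommRingCat.isPushout_tensorProduct Γ(Y, V) A' Γ(X, U))
  have hb : b ≫ hV.fromSpec = hU.fromSpec ≫ f := IsAffineOpen.SpecMap_appLE_fromSpec f hV hU hUV
  have sqX'' := IsPullback.of_hasPullback f' c
  have hX'' : ∀ z, Synt.IsKoszulAt (pullback.snd f' c) z := by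
    haveI : Flat c := inferInstance
    exact S8658.result f' c _ _ sqX'' hf'
  have big : IsPullback (pullback.fst f' c ≫ g') (pullback.snd f' c) f (c ≫ g) := sqX''.paste_horiz hsq
  have e1 : (pr₁ ≫ hU.fromSpec) ≫ f = pr₂ ≫ c ≫ g := by
    rw [hcd, ← hψd, ← Category.assoc pr₂, sqT.w, Category.assoc, Category.assoc, hb]
  let m := big.lift (pr₁ ≫ hU.fromSpec) pr₂ e1
  haveI : IsOpenImmersion m := by
    have sqO : IsPullback pr₁ pr₂ (hU.fromSpec ≫ f) (c ≫ g) := by
      rw [← hb, hcd, ← hψd]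
      exact isPullback_comp_mono _ sqT.flip
    exact MorphismProperty.of_isPullback (P := @IsOpenImmersion) (IsPullback.of_bot' sqO big)
      (inferInstance : IsOpenImmersion hU.fromSpec)
  have hm : m ≫ pullback.snd f' c = pr₂ := big.lift_snd _ _ _
  show Synt.IsKoszulAt pr₂ z
  rw [← hm]
  exact KoszulLib.isKoszulAt_comp m (pullback.snd f' c) (fun w => LciSp.isKoszulAt_of_etale m w) hX'' z

end Groth.Agent.KoszulFpqc
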