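import Groth.Agent.KoszulFpqc.Basic
import Groth.Agent.AlgSpLib.FpqcRep
import Groth.Agent.AlgSpLib.LocP
import Groth.Agent.AlgSpLib.QCompact
import Groth.Agent.SyntLib.Hom
import Groth.Agent.S9730
import Groth.Prelude.Def_AlgSpMor6

/-!
# Local complete intersection morphisms of algebraic spaces are fpqc local on the base
-/

set_option autoImplicit false
set_option linter.style.haveILetI false
set_option backward.isDefEq.respectTransparency false

universe u

open CategoryTheory CategoryTheory.Limits AlgebraicGeometry Opposite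

namespace Groth.Agent.KoszulFpqc

open _root_.AlgSp Groth.Agent.AlgSpLib

/-- Koszul points can be read on an open subscheme -/
theorem isKoszulAt_of_openImmersion {X' X Y : Scheme.{u}} (e : X' ⟶ X) [IsOpenImmersion e] (f : X ⟶ Y) {z : X'}
    (h : Synt.IsKoszulAt (e ≫ f) z) : Synt.IsKoszulAt f (e z) := by
  obtain ⟨W, P, i, π, hz, hlft, hreg, hsm, hfac⟩ := h
  let ε : W.toScheme ≅ (e ''ᵁ W).toScheme := e.isoImage W
  have hε : ε.inv ≫ W.ι ≫ e = (e ''ᵁ W).ι := e.isoImage_inv_ι W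
  haveI := hlft
  haveI := hreg.1
  refine ⟨e ''ᵁ W, P, ε.inv ≫ i, π, ⟨z, hz, rfl⟩, ?_, ⟨inferInstance, fun w => ?_⟩, hsm, ?_⟩
  · rw [← hε, Category.assoc, Category.assoc]
    infer_instance
  · exact (KoszulLib.isRegularImmersionAt_iso_comp ε.inv i w).2 (hreg.2 _)
  · rw [← hε, Category.assoc, Category.assoc, Category.assoc, hfac]

theorem of_etale_source {X' X Y : Scheme.{u}} (q : X' ⟶ X) [Etale q] [Surjective q] (f : X ⟶ Y)
    (h : ∀ x, Synt.IsKoszulAt (q ≫ f) x) : ∀ x, Synt.IsKoszulAt f x :=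
  (S9730.result q ((SyntLib.isSyntomicMor_iff q).2 (LciSp.synMor_of_etale q)) f).1 h

variable {S : Scheme.{u}}

/-- local complete intersection morphisms are stable under flat base change of algebraic spaces -/
theorem lci_baseChange_flat {X Y X' Y' : Sp S} (hX : IsAlgSpace X) (hY : IsAlgSpace Y) (hX' : IsAlgSpace X')
    (hY' : IsAlgSpace Y') {f : X ⟶ Y} {g : Y' ⟶ Y} {q : X' ⟶ X} {p : X' ⟶ Y'} (sq : IsPullback q p f g)
    (hg : LocP @Flat g) (hf : LocP AlgSp.lci f) : LocP AlgSp.lci p := by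
  intro U V a b h ha hb comm
  obtain ⟨W, c, hce, hcs⟩ := hY.atlas
  obtain ⟨V'', v₁, v₂, sqV⟩ := exists_pullback hY.diag (b ≫ g) c
  have hv₁ : RepWith @Etale ((yon S).map v₁) := repWith_baseChange sqV.flip hce
  haveI : Flat v₂.left := hg ((yon S).map v₁ ≫ b) c v₂ (repWith_comp hv₁ hb) hce
    (by rw [Category.assoc]; exact sqV.w)
  have hm : RepWith @Etale ((yon S).map v₁ ≫ b) := repWith_comp hv₁ hb
  obtain ⟨U'', u₁, h'', sqU⟩ := exists_pullback (IsAlgSpace.yon_obj V).diag ((yon S).map h) ((yon S).map v₁)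
  have hu₁ : RepWith @Etale ((yon S).map u₁) := repWith_baseChange sqU.flip hv₁
  have hu₁s : RepWith @Surjective ((yon S).map u₁) := repWith_baseChange sqU.flip (repWith_baseChange sqV.flip hcs)
  -- the base change of `f` to `W`
  have sqW := IsPullback.of_hasPullback f c
  have hXW : IsAlgSpace (pullback f c) := isAlgSpace_of_isPullback_space hY hX (IsAlgSpace.yon_obj W) sqW
  obtain ⟨U₀, r, hr, hrs⟩ := hXW.atlas
  obtain ⟨α, hα⟩ := exists_map_eq (r ≫ pullback.snd f c)
  have hfst : RepWith @Etale (pullback.fst f c) := repWith_baseChange sqW.flip hce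
  have hαl : ∀ x, Synt.IsKoszulAt α.left x := hf (r ≫ pullback.fst f c) c α (repWith_comp hr hfst) hce
    (by rw [hα, Category.assoc, Category.assoc, pullback.condition])
  -- the base change of `p` to `V''`
  have sqZ := IsPullback.of_hasPullback p ((yon S).map v₁ ≫ b)
  have hZ : IsAlgSpace (pullback p ((yon S).map v₁ ≫ b)) :=
    isAlgSpace_of_isPullback_space hY' hX' (IsAlgSpace.yon_obj V'') sqZ
  have big : IsPullback (pullback.fst p ((yon S).map v₁ ≫ b) ≫ q) (pullback.snd _ _) f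
      (((yon S).map v₁ ≫ b) ≫ g) := sqZ.paste_horiz sq
  have e : ((yon S).map v₁ ≫ b) ≫ g = (yon S).map v₂ ≫ c := by rw [Category.assoc]; exact sqV.w
  rw [e] at big
  have sqM := IsPullback.of_right' big sqW
  obtain ⟨Q, p₀, q₁, sqQ⟩ := exists_pullback (IsAlgSpace.yon_obj W).diag ((yon S).map α) ((yon S).map v₂)
  have hq₁ : ∀ x, Synt.IsKoszulAt q₁.left x :=
    S8658.result α.left v₂.left q₁.left p₀.left (isPullback_yon_iff.1 sqQ) hαl
  let l₂ : (yon S).obj Q ⟶ pullback p ((yon S).map v₁ ≫ b) :=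
    sqM.lift ((yon S).map p₀ ≫ r) ((yon S).map q₁) (by rw [Category.assoc, ← hα]; exact sqQ.w)
  have sql₂ : IsPullback ((yon S).map p₀) l₂ r _ :=
    IsPullback.of_bot (by rw [sqM.lift_snd, ← hα]; exact sqQ) (sqM.lift_fst _ _ _).symm sqM
  let l₁ : (yon S).obj U'' ⟶ pullback p ((yon S).map v₁ ≫ b) :=
    pullback.lift ((yon S).map u₁ ≫ a) ((yon S).map h'') (by rw [Category.assoc, comm, sqU.w_assoc])
  have hl₁ : RepWith @Etale l₁ := by
    refine repWith_etale_of_comp hZ hX' ?_ (isEtaleMor_of_repWith' (repWith_baseChange sqZ.flip hm))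
    rw [pullback.lift_fst]
    exact repWith_comp hu₁ ha
  obtain ⟨E, e₁, e₂, sqE⟩ := exists_pullback hZ.diag l₁ l₂
  haveI : Etale e₁.left := (repWith_yon_iff e₁).1 (repWith_baseChange sqE.flip (repWith_baseChange sql₂ hr))
  haveI : Surjective e₁.left := (repWith_yon_iff e₁).1 (repWith_baseChange sqE.flip (repWith_baseChange sql₂ hrs))
  haveI : Etale e₂.left := (repWith_yon_iff e₂).1 (repWith_baseChange sqE hl₁)
  haveI : Etale u₁.left := (repWith_yon_iff u₁).1 hu₁
  haveI : Surjective u₁.left := (repWith_yon_iff u₁).1 hu₁s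
  haveI : Etale v₁.left := (repWith_yon_iff v₁).1 hv₁
  have ee : e₁ ≫ h'' = e₂ ≫ q₁ := (yon S).map_injective (by
    rw [Functor.map_comp, Functor.map_comp,
      ← show l₁ ≫ pullback.snd p ((yon S).map v₁ ≫ b) = (yon S).map h'' from pullback.lift_snd _ _ _,
      ← show l₂ ≫ pullback.snd p ((yon S).map v₁ ≫ b) = (yon S).map q₁ from sqM.lift_snd _ _ _, reassoc_of% sqE.w])
  have hh'' : ∀ x, Synt.IsKoszulAt h''.left x := by
    refine of_etale_source e₁.left h''.left ?_
    rw [← Over.comp_left, ee, Over.comp_left]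
    exact KoszulLib.isKoszulAt_comp e₂.left q₁.left (LciSp.isKoszulAt_of_etale e₂.left) hq₁
  have eu : u₁ ≫ h = h'' ≫ v₁ := (yon S).map_injective (by rw [Functor.map_comp, Functor.map_comp, sqU.w])
  refine of_etale_source u₁.left h.left ?_
  rw [← Over.comp_left, eu, Over.comp_left]
  exact KoszulLib.isKoszulAt_comp h''.left v₁.left hh'' (LciSp.isKoszulAt_of_etale v₁.left)

/-- a finite family of affine schemes etale over the members of an fpqc covering covers each affine chart -/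
theorem exists_etale_pieces {ι : Type u} {Y : Sp S} {Yi : ι → Sp S} {g : ∀ i, Yi i ⟶ Y} (hY : IsAlgSpace Y)
    (hYi : ∀ i, IsAlgSpace (Yi i)) (hg : IsFpqcCover Yi g) {O : Over S} [IsAffine O.left]
    (b : (yon S).obj O ⟶ Y) (hb : RepWith @Etale b) :
    ∃ (J : Type u) (_ : Finite J) (Z : J → Over S) (c : ∀ j, Z j ⟶ O), (∀ j, IsAffine (Z j).left) ∧
      (∀ j, Flat (c j).left) ∧ (∀ o : O.left, ∃ j, o ∈ Set.range (c j).left) ∧
      ∀ j, ∃ (i : ι) (l : (yon S).obj (Z j) ⟶ Yi i), RepWith @Etale l ∧ l ≫ g i = (yon S).map (c j) ≫ b := by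
  obtain ⟨K, _, A, fA, d, hA, -, -, hd, -, hk⟩ := exists_pieces hg (Z := O) ‹_› b
  have key : ∀ (k : K) (a : A k), ∃ (Z : Over S) (c : Z ⟶ O) (i : ι) (l : (yon S).obj Z ⟶ Yi i)
      (N : Set (A k)), IsAffine Z.left ∧ Flat c.left ∧ RepWith @Etale l ∧
        l ≫ g i = (yon S).map c ≫ b ∧ IsOpen N ∧ a ∈ N ∧
        ∀ a' ∈ N, (sigmaInj fA k ≫ d).left a' ∈ Set.range c.left := by
    intro k a
    obtain ⟨i, m, hm⟩ := hk k
    have sqP := IsPullback.of_hasPullback (g i) b
    have hP : IsAlgSpace (pullback (g i) b) := isAlgSpace_of_isPullback_space hY (hYi i) (IsAlgSpace.yon_obj O) sqP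
    obtain ⟨W, ω, hω, hωs⟩ := hP.atlas
    let m' : (yon S).obj (Over.mk (fA k)) ⟶ pullback (g i) b :=
      pullback.lift m ((yon S).map (sigmaInj fA k ≫ d)) hm
    obtain ⟨w, hw⟩ := ofPt_surjective hωs (Points.ofPt m' a)
    obtain ⟨Ω, hΩ, hwΩ, -⟩ := exists_isAffineOpen_mem_and_subset (U := (⊤ : W.left.Opens)) (x := w) trivial
    let Z : Over S := Over.mk (Ω.ι ≫ W.hom)
    let κ : Z ⟶ W := Over.homMk Ω.ι rfl
    have hκω : RepWith @Etale ((yon S).map κ ≫ ω) :=
      repWith_comp ((repWith_yon_iff κ).2 (show Etale Ω.ι from inferInstance)) hω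
    obtain ⟨c, hc⟩ := exists_map_eq ((yon S).map κ ≫ ω ≫ pullback.snd (g i) b)
    have hl : RepWith @Etale (((yon S).map κ ≫ ω) ≫ pullback.fst (g i) b) :=
      repWith_comp hκω (repWith_baseChange sqP.flip hb)
    have hlc : (((yon S).map κ ≫ ω) ≫ pullback.fst (g i) b) ≫ g i = (yon S).map c ≫ b := by
      rw [hc, Category.assoc, Category.assoc, Category.assoc, Category.assoc, pullback.condition]
    refine ⟨Z, c, i, _, Points.ofPt m' ⁻¹' Set.range (Points.ofPt ((yon S).map κ ≫ ω)), (hΩ : IsAffine Ω.toScheme),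
      hg.1 i _ b c hl hb hlc, hl, hlc, ?_, ⟨(⟨w, hwΩ⟩ : Ω.toScheme), ?_⟩, ?_⟩
    · rw [← Set.image_univ]
      exact (isOpenMap_ofPt (repWith_universallyOpen_of_etale hκω) _ isOpen_univ).preimage (Points.continuous_ofPt m')
    · rw [ofPt_comp]
      exact hw
    · rintro a' ⟨z, hz⟩
      refine ⟨z, (Points.schemeEquiv O).injective ?_⟩
      have e := congrArg (Points.map (pullback.snd (g i) b)) hz
      rw [Points.map_ofPt, Points.map_ofPt, Category.assoc, ← hc, pullback.lift_snd, ← Category.comp_id ((yon S).map c),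
        ← Category.comp_id ((yon S).map (sigmaInj fA k ≫ d)), ofPt_comp, ofPt_comp] at e
      exact e
  choose Z c i l N hZ hc hl hlc hN haN hNc using key
  have hfin : ∀ k, ∃ t : Finset (A k), (Set.univ : Set (A k)) ⊆ ⋃ a ∈ t, N k a := fun k => by
    haveI := hA k
    exact isCompact_univ.elim_finite_subcover (fun a => N k a) (fun a => hN k a)
      (fun a _ => Set.mem_iUnion.2 ⟨a, haN k a⟩)
  choose t ht using hfin
  refine ⟨Σ k, t k, inferInstance, fun j => Z j.1 j.2, fun j => c j.1 j.2, fun j => hZ _ _, fun j => hc _ _, fun o => ?_,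
    fun j => ⟨i j.1 j.2, l j.1 j.2, hl _ _, hlc _ _⟩⟩
  obtain ⟨s, rfl⟩ := d.left.surjective o
  obtain ⟨k, a, rfl⟩ : ∃ k a, Sigma.ι A k a = s := (sigmaOpenCover A).exists_eq s
  obtain ⟨a₀, ha₀, hmem⟩ := Set.mem_iUnion₂.1 (ht k (Set.mem_univ a))
  exact ⟨⟨k, a₀, ha₀⟩, hNc k a₀ a hmem⟩

theorem isLocalOnBase_lci : IsLocalOnBase (IsFpqcCover (S := S)) (LocP AlgSp.lci) := by
  intro ι Y Yi g hY hYi hg X f hX Xi p q hXi sq
  refine ⟨fun hf i => lci_baseChange_flat hX hY (hXi i) (hYi i) (sq i) (hg.1 i) hf, fun hp U V a b h ha hb comm => ?_⟩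
  intro x
  obtain ⟨Ω, hΩ, hxΩ, -⟩ := exists_isAffineOpen_mem_and_subset (U := (⊤ : V.left.Opens)) (x := h.left x) trivial
  let O : Over S := Over.mk (Ω.ι ≫ V.hom)
  haveI : IsAffine O.left := (hΩ : IsAffine Ω.toScheme)
  let κ : O ⟶ V := Over.homMk Ω.ι rfl
  have hκ : RepWith @Etale ((yon S).map κ) := (repWith_yon_iff κ).2 (show Etale Ω.ι from inferInstance)
  have hbO : RepWith @Etale ((yon S).map κ ≫ b) := repWith_comp hκ hb
  obtain ⟨J, _, Z, c, hZ, hcf, hcs, hl⟩ := exists_etale_pieces hY hYi hg _ hbO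
  let T : Scheme.{u} := ∐ fun j => (Z j).left
  haveI : IsAffine T := inferInstance
  let cT : T ⟶ O.left := Sigma.desc fun j => (c j).left
  haveI : Flat cT := (IsZariskiLocalAtSource.iff_of_openCover (P := @Flat) (sigmaOpenCover _)).2 fun j => by
    show Flat (Sigma.ι (fun j => (Z j).left) j ≫ cT)
    rw [Sigma.ι_desc]
    exact hcf j
  haveI : Surjective cT := ⟨fun o => by
    obtain ⟨j, z, hz⟩ := hcs o
    refine ⟨Sigma.ι (fun j => (Z j).left) j z, ?_⟩
    rw [← Scheme.Hom.comp_apply, Sigma.ι_desc]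
    exact hz⟩
  have sqO := IsPullback.of_hasPullback h.left Ω.ι
  have sqT := IsPullback.of_hasPullback (pullback.snd h.left Ω.ι) cT
  have hT : ∀ z, Synt.IsKoszulAt (pullback.snd (pullback.snd h.left Ω.ι) cT) z := by
    intro z
    obtain ⟨j, z', hj⟩ := (sigmaOpenCover fun j => (Z j).left).exists_eq (pullback.snd (pullback.snd h.left Ω.ι) cT z)
    obtain ⟨i, l, hle, hlg⟩ := hl j
    let ζ : Z j ⟶ V := c j ≫ κ
    obtain ⟨Uj, u₁, u₂, sqU⟩ := exists_pullback (IsAlgSpace.yon_obj V).diag ((yon S).map h) ((yon S).map ζ)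
    have hκg : (yon S).map ζ ≫ b = l ≫ g i := by rw [hlg, Functor.map_comp, Category.assoc]
    -- the chart of `Xi i`
    have sqF := IsPullback.of_hasPullback f b
    have hF : IsAlgSpace (pullback f b) := isAlgSpace_of_isPullback_space hY hX (IsAlgSpace.yon_obj V) sqF
    let la := pullback.lift a ((yon S).map h) comm
    have hla : RepWith @Etale la := by
      refine repWith_etale_of_comp hF hX ?_ (isEtaleMor_of_repWith' (repWith_baseChange sqF.flip hb))
      rw [pullback.lift_fst]; exact ha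
    have sqk := IsPullback.of_hasPullback (pullback.snd f b) ((yon S).map ζ)
    have big : IsPullback (pullback.fst (pullback.snd f b) ((yon S).map ζ) ≫ pullback.fst f b)
        (pullback.snd _ _) f (l ≫ g i) := hκg ▸ sqk.paste_horiz sqF
    have sqP : IsPullback ((sq i).lift _ (pullback.snd (pullback.snd f b) ((yon S).map ζ) ≫ l)
        (big.w.trans (Category.assoc _ _ _).symm)) (pullback.snd _ _) (p i) l :=
      IsPullback.of_right (by rw [(sq i).lift_fst]; exact big) ((sq i).lift_snd _ _ _) (sq i)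
    let lk : (yon S).obj Uj ⟶ pullback (pullback.snd f b) ((yon S).map ζ) :=
      sqk.lift ((yon S).map u₁ ≫ la) ((yon S).map u₂) (by rw [Category.assoc, pullback.lift_snd]; exact sqU.w)
    have sql : IsPullback ((yon S).map u₁) lk la (pullback.fst _ _) :=
      IsPullback.of_bot (by rw [pullback.lift_snd, sqk.lift_snd]; exact sqU) (sqk.lift_fst _ _ _).symm sqk
    have hu : ∀ w, Synt.IsKoszulAt u₂.left w :=
      hp i (lk ≫ _) l u₂ (repWith_comp (repWith_baseChange sql hla) (repWith_baseChange sqP.flip hle)) hle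
        (by rw [Category.assoc, sqP.w, sqk.lift_snd_assoc])
    have sqj := IsPullback.of_hasPullback (pullback.snd (pullback.snd h.left Ω.ι) cT) (Sigma.ι (fun j => (Z j).left) j)
    have e' := sqj.paste_horiz (sqT.paste_horiz sqO)
    have eζ : ζ.left = Sigma.ι (fun j => (Z j).left) j ≫ cT ≫ Ω.ι := by
      rw [← Category.assoc, Sigma.ι_desc]; rfl
    rw [← eζ] at e'
    have sqr : IsPullback u₁.left u₂.left h.left ζ.left := isPullback_yon_iff.1 sqU
    obtain ⟨z₀, hz₀⟩ : z ∈ Set.range (pullback.fst (pullback.snd (pullback.snd h.left Ω.ι) cT)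
        (Sigma.ι (fun j => (Z j).left) j)) := by
      rw [Scheme.Pullback.range_fst]
      exact ⟨z', hj⟩
    subst hz₀
    apply isKoszulAt_of_openImmersion
    rw [pullback.condition, ← e'.isoIsPullback_hom_snd _ _ sqr]
    exact KoszulLib.isKoszulAt_comp _ _ (KoszulLib.isKoszulAt_comp _ _
      (LciSp.isKoszulAt_of_etale (e'.isoIsPullback _ _ sqr).hom) hu)
      (LciSp.isKoszulAt_of_etale (Sigma.ι (fun j => (Z j).left) j)) z₀
  haveI : QuasiCompact cT := inferInstance
  have hO := isKoszulAt_descent _ cT _ _ sqT hT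
  obtain ⟨x₀, rfl⟩ : x ∈ Set.range (pullback.fst h.left Ω.ι) := by
    rw [Scheme.Pullback.range_fst]
    exact ⟨⟨h.left x, hxΩ⟩, rfl⟩
  apply isKoszulAt_of_openImmersion
  rw [pullback.condition]
  exact KoszulLib.isKoszulAt_comp _ _ hO (LciSp.isKoszulAt_of_etale Ω.ι) x₀

end Groth.Agent.KoszulFpqc
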